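import Cfsg.Agent.OD.Pre
import Cfsg.Agent.H6.Top2
import Cfsg.Agent.H6.ONA.D0
set_option autoImplicit false
set_option maxRecDepth 100000
set_option Elab.async false
set_option linter.all false
namespace CfH6.ONA
open CfH6 MulAction
noncomputable def n0_0 : Net := mkNet (nat_lit 131072) [(nat_lit 65536, k0), (nat_lit 32768, k1), (nat_lit 16384, k2), (nat_lit 8192, k3), (nat_lit 4096, k4), (nat_lit 2048, k5), (nat_lit 1024, k6), (nat_lit 512, k7), (nat_lit 256, k8), (nat_lit 128, k9), (nat_lit 64, k10), (nat_lit 32, k11), (nat_lit 16, k12), (nat_lit 8, k13), (nat_lit 4, k14), (nat_lit 2, k15)] [(k16, nat_lit 1)]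
noncomputable def n0_1 : Net := revNet n0_0
noncomputable def n0_2 : Net := mkNet (nat_lit 131072) [(nat_lit 65536, k17), (nat_lit 32768, k18), (nat_lit 16384, k19), (nat_lit 8192, k20), (nat_lit 4096, k21), (nat_lit 2048, k22), (nat_lit 1024, k23), (nat_lit 512, k24), (nat_lit 256, k25), (nat_lit 128, k26), (nat_lit 64, k27), (nat_lit 32, k28), (nat_lit 16, k29), (nat_lit 8, k30), (nat_lit 4, k31), (nat_lit 2, k32)] [(k33, nat_lit 1)]
noncomputable def n0_3 : Net := mkNet (nat_lit 131072) [(nat_lit 65536, k34), (nat_lit 32768, k35), (nat_lit 16384, k36), (nat_lit 8192, k37), (nat_lit 4096, k38), (nat_lit 2048, k39), (nat_lit 1024, k40), (nat_lit 512, k41), (nat_lit 256, k42), (nat_lit 128, k43), (nat_lit 64, k44), (nat_lit 32, k45), (nat_lit 16, k46), (nat_lit 8, k47), (nat_lit 4, k48), (nat_lit 2, k49)] [(k50, nat_lit 1)]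
noncomputable def n0_4 : Net := mkNet (nat_lit 131072) [(nat_lit 65536, k51), (nat_lit 32768, k52), (nat_lit 16384, k53), (nat_lit 8192, k54), (nat_lit 4096, k55), (nat_lit 2048, k56), (nat_lit 1024, k57), (nat_lit 512, k58), (nat_lit 256, k59), (nat_lit 128, k60), (nat_lit 64, k61), (nat_lit 32, k62), (nat_lit 16, k63), (nat_lit 8, k64), (nat_lit 4, k65), (nat_lit 2, k66)] [(k67, nat_lit 1)]
noncomputable def n0_5 : Net := mkNet (nat_lit 131072) [(nat_lit 65536, k68), (nat_lit 32768, k69), (nat_lit 16384, k70), (nat_lit 8192, k71), (nat_lit 4096, k72), (nat_lit 2048, k73), (nat_lit 1024, k74), (nat_lit 512, k75), (nat_lit 256, k76), (nat_lit 128, k77), (nat_lit 64, k78), (nat_lit 32, k79), (nat_lit 16, k80), (nat_lit 8, k81), (nat_lit 4, k82), (nat_lit 2, k83)] [(k84, nat_lit 1)]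
noncomputable def n0_6 : Net := mkNet (nat_lit 131072) [(nat_lit 65536, k85), (nat_lit 32768, k86), (nat_lit 16384, k87), (nat_lit 8192, k88), (nat_lit 4096, k89), (nat_lit 2048, k90), (nat_lit 1024, k91), (nat_lit 512, k92), (nat_lit 256, k93), (nat_lit 128, k94), (nat_lit 64, k95), (nat_lit 32, k96), (nat_lit 16, k97), (nat_lit 8, k98), (nat_lit 4, k99), (nat_lit 2, k100)] [(k101, nat_lit 1)]
noncomputable def n0_7 : Net := mkNet (nat_lit 131072) [(nat_lit 65536, k102), (nat_lit 32768, k103), (nat_lit 16384, k104), (nat_lit 8192, k105), (nat_lit 4096, k106), (nat_lit 2048, k107), (nat_lit 1024, k108), (nat_lit 512, k109), (nat_lit 256, k110), (nat_lit 128, k111), (nat_lit 64, k112), (nat_lit 32, k113), (nat_lit 16, k114), (nat_lit 8, k115), (nat_lit 4, k116), (nat_lit 2, k117)] [(k118, nat_lit 1)]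
noncomputable def n2_0 : Net := mkNet (nat_lit 128) [(nat_lit 64, k119), (nat_lit 32, k120), (nat_lit 16, k121), (nat_lit 8, k122), (nat_lit 4, k123), (nat_lit 2, k124)] [(k125, nat_lit 1)]
noncomputable def n2_1 : Net := mkNet (nat_lit 128) [(nat_lit 64, k126), (nat_lit 32, k127), (nat_lit 16, k128), (nat_lit 8, k129), (nat_lit 4, k130), (nat_lit 2, k131)] [(k132, nat_lit 1)]
noncomputable def n2_2 : Net := mkNet (nat_lit 128) [(nat_lit 64, k133), (nat_lit 32, k134), (nat_lit 16, k135), (nat_lit 8, k136), (nat_lit 4, (nat_lit 0x10aaa4503c9072b4004aa42200)), (nat_lit 2, k137)] [(k138, nat_lit 1)]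
noncomputable def n3_0 : Net := mkNet (nat_lit 8) [(nat_lit 4, (nat_lit 0x88)), (nat_lit 2, (nat_lit 0xc0))] [((nat_lit 0x50), nat_lit 1)]
noncomputable def n3_1 : Net := mkNet (nat_lit 8) [(nat_lit 4, (nat_lit 0x88)), (nat_lit 2, (nat_lit 0xa0))] [((nat_lit 0x10), nat_lit 1)]
noncomputable def n4_0 : Net := mkNet (nat_lit 6) [(nat_lit 3, (nat_lit 0))] [((nat_lit 0x8), nat_lit 1)]
noncomputable def nets0 : List Net := [n0_0, n0_1, n0_2, n0_3, n0_4, n0_5, n0_6, n0_7]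
noncomputable def nets1 : List Net := [n0_2, n0_3, n0_4, n0_5, n0_6, n0_7]
def ws1 : List (List ℕ) := [[2],
  [3],
  [4],
  [5],
  [6],
  [7]]
noncomputable def nets2 : List Net := [n2_0, n2_1, n2_2]
def ws2 : List (List ℕ) := [[1, 2, 3, 2, 1, 3, 4, 3, 2, 5, 4, 3, 4, 1, 5, 5, 0, 0, 5, 4, 0, 4, 3, 3, 2, 1, 5, 3, 2, 3, 1, 4, 0, 2, 3, 4, 5, 0, 3, 5, 5, 1, 4, 5, 2, 5, 2, 3, 5, 5, 1, 2, 1, 0, 3],
  [2, 3, 2, 3],
  [5]]
noncomputable def nets3 : List Net := [n3_0, n3_1]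
def ws3 : List (List ℕ) := [[1, 1, 0, 0, 0, 1],
  [2, 0]]
noncomputable def nets4 : List Net := [n4_0]
def ws4 : List (List ℕ) := [[1]]
def sig : List (List ℕ) := [[0],
  [1],
  [2],
  [3],
  [4],
  [5],
  [6],
  [7]]
def eqs0 : List (List ℕ × List ℕ) := [([0, 1], []),
  ([2, 2], []),
  ([3, 3], []),
  ([4, 4], []),
  ([5, 5], []),
  ([6, 6], []),
  ([7, 7], []),
  ([2, 3, 2], [3, 2, 3]),
  ([2, 4], [4, 2]),
  ([2, 5], [5, 2]),
  ([2, 6], [6, 2]),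
  ([2, 7], [7, 2]),
  ([3, 4, 3], [4, 3, 4]),
  ([3, 5], [5, 3]),
  ([3, 6], [6, 3]),
  ([3, 7], [7, 3]),
  ([4, 5, 4, 5, 4, 5, 4, 5], [5, 4, 5, 4, 5, 4, 5, 4]),
  ([4, 6], [6, 4]),
  ([4, 7], [7, 4]),
  ([5, 6, 5], [6, 5, 6]),
  ([5, 7], [7, 5]),
  ([6, 7, 6], [7, 6, 7]),
  ([2, 7], [0, 0]),
  ([2, 7, 5, 4, 5], [4, 5, 4, 5, 4]),
  ([4, 1, 5, 1, 5], [1, 5, 1, 5, 4]),
  ([5, 1, 4, 1, 4], [1, 4, 1, 4, 5]),
  ([3, 4, 5, 0, 3, 4, 5, 0, 3, 4], [1, 5, 4, 3, 1, 5, 4, 3, 1, 5]),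
  ([0, 3, 4, 0, 4, 3], [4, 1, 4, 3, 1]),
  ([0, 6, 5, 0, 5, 6], [5, 1, 5, 6, 1])]
def eqs : List (List ℕ × List ℕ) := eqs0
def lU : List (ℕ × ℕ) := [(0, 7), (8, 97), (128, 122656)]
noncomputable def U : ℕ := ivls lU
def l1 : List (ℕ × ℕ) := [(1, 4), (8, 41), (128, 58608)]
noncomputable def S1 : ℕ := ivls l1
def w1 : List ℕ := [0]
def l2 : List (ℕ × ℕ) := [(49, 8), (58736, 52128)]
noncomputable def S2 : ℕ := ivls l2
def w2 : List ℕ := [0, 3, 0]
def l3 : List (ℕ × ℕ) := [(5, 2), (57, 48), (110864, 5536)]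
noncomputable def S3 : ℕ := ivls l3
def w3 : List ℕ := [0, 4, 0]
def l4 : List (ℕ × ℕ) := [(116400, 6384)]
noncomputable def S4 : ℕ := ivls l4
def w4 : List ℕ := [0, 5, 3, 0]
noncomputable def J : List (List ℕ × ℕ × ℕ) := [(w1, 1, S1), (w2, 58737, S2), (w3, 73, S3), (w4, 116401, S4)]
def lBig : List (ℕ × ℕ) := [(1, 4), (8, 49), (128, 110736)]
noncomputable def J4 : List (List ℕ × ℕ × ℕ) := [([4, 2, 3, 0, 3, 0, 2, 3, 0], 1, S1), ([1, 0, 0], 58737, S2)]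
noncomputable def J3 : List (List ℕ × ℕ × ℕ) := [([2, 0, 4, 2, 0, 2, 0, 4, 1, 0, 2, 0], 1, S1), ([3, 0, 2, 0], 58737, S2)]
noncomputable def J2 : List (List ℕ × ℕ × ℕ) := [([2, 3, 4, 0, 3, 4, 0, 2, 3, 0], 1, S1), ([0], 58737, S2)]
noncomputable def J1 : List (List ℕ × ℕ × ℕ) := [([0], 1, S1), ([0, 2, 0], 58737, S2)]
def ex : List (List ℕ) := [[3, 4, 5, 0]]
def bs' : List ℕ := [0, 1, 2, 5, 3]
end CfH6.ONA
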