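import Cfsg.Agent.OD.Pre
import Cfsg.Agent.H6.Top2
import Cfsg.Agent.H6.ONA.C
set_option autoImplicit false
set_option maxRecDepth 100000
set_option Elab.async false
set_option linter.all false
namespace CfH6.ONA
open CfH6 MulAction
theorem e0_0 : EqsOk nets0 eqs0 131072 17 0 2 :=
  eqsOk_of _ _ _ _ 0 2 _ (by decide) (by decide +kernel)
theorem e0_2 : EqsOk nets0 eqs0 131072 17 2 4 :=
  eqsOk_of _ _ _ _ 2 2 _ (by decide) (by decide +kernel)
theorem e0_4 : EqsOk nets0 eqs0 131072 17 4 6 :=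
  eqsOk_of _ _ _ _ 4 2 _ (by decide) (by decide +kernel)
theorem e0_6 : EqsOk nets0 eqs0 131072 17 6 8 :=
  eqsOk_of _ _ _ _ 6 2 _ (by decide) (by decide +kernel)
theorem e0_8 : EqsOk nets0 eqs0 131072 17 8 10 :=
  eqsOk_of _ _ _ _ 8 2 _ (by decide) (by decide +kernel)
theorem e0_10 : EqsOk nets0 eqs0 131072 17 10 12 :=
  eqsOk_of _ _ _ _ 10 2 _ (by decide) (by decide +kernel)
theorem e0_12 : EqsOk nets0 eqs0 131072 17 12 14 :=
  eqsOk_of _ _ _ _ 12 2 _ (by decide) (by decide +kernel)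
theorem e0_14 : EqsOk nets0 eqs0 131072 17 14 16 :=
  eqsOk_of _ _ _ _ 14 2 _ (by decide) (by decide +kernel)
theorem e0_16 : EqsOk nets0 eqs0 131072 17 16 17 :=
  eqsOk_of _ _ _ _ 16 1 _ (by decide) (by decide +kernel)
theorem ok0 : okNets 131072 nets0 = true := by decide +kernel
theorem x1_0 : NxOk nets0 ws1 nets1 6 131072 17 131072 0 17 :=
  nxOk_of _ _ _ _ _ _ _ 0 17 _ (by decide) (by decide +kernel)
theorem sx1 : sideNx ws1 nets1 8 131072 17 131072 = true := by decide +kernel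
theorem x2_0 : NxOk nets1 ws2 nets2 3 131072 17 128 0 3 :=
  nxOk_of _ _ _ _ _ _ _ 0 3 _ (by decide) (by decide +kernel)
theorem x2_3 : NxOk nets1 ws2 nets2 3 131072 17 128 3 6 :=
  nxOk_of _ _ _ _ _ _ _ 3 3 _ (by decide) (by decide +kernel)
theorem x2_6 : NxOk nets1 ws2 nets2 3 131072 17 128 6 9 :=
  nxOk_of _ _ _ _ _ _ _ 6 3 _ (by decide) (by decide +kernel)
theorem x2_9 : NxOk nets1 ws2 nets2 3 131072 17 128 9 12 :=
  nxOk_of _ _ _ _ _ _ _ 9 3 _ (by decide) (by decide +kernel)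
theorem x2_12 : NxOk nets1 ws2 nets2 3 131072 17 128 12 15 :=
  nxOk_of _ _ _ _ _ _ _ 12 3 _ (by decide) (by decide +kernel)
theorem x2_15 : NxOk nets1 ws2 nets2 3 131072 17 128 15 17 :=
  nxOk_of _ _ _ _ _ _ _ 15 2 _ (by decide) (by decide +kernel)
theorem sx2 : sideNx ws2 nets2 6 131072 17 128 = true := by decide +kernel
theorem x3_0 : NxOk nets2 ws3 nets3 2 128 7 8 0 7 :=
  nxOk_of _ _ _ _ _ _ _ 0 7 _ (by decide) (by decide +kernel)
theorem sx3 : sideNx ws3 nets3 3 128 7 8 = true := by decide +kernel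
theorem x4_0 : NxOk nets3 ws4 nets4 1 8 3 6 0 3 :=
  nxOk_of _ _ _ _ _ _ _ 0 3 _ (by decide) (by decide +kernel)
theorem sx4 : sideNx ws4 nets4 2 8 3 6 = true := by decide +kernel
theorem oi1_0 : (Nat.blt 0 6 && Nat.beq (orbN nets1 6 48 (Nat.shiftLeft 1 1)) S1) = true := by decide +kernel
theorem ci1 : (Nat.beq (chkInv nets1 6 S1) 0 && S1.testBit 1) = true := by decide +kernel
theorem oi2_0 : (Nat.blt 0 6 && Nat.beq (orbN nets1 6 66 (Nat.shiftLeft 1 58737)) S2) = true := by decide +kernel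
theorem ci2 : (Nat.beq (chkInv nets1 6 S2) 0 && S2.testBit 58737) = true := by decide +kernel
theorem oi3_0 : (Nat.blt 0 6 && Nat.beq (orbN nets1 6 66 (Nat.shiftLeft 1 73)) S3) = true := by decide +kernel
theorem ci3 : (Nat.beq (chkInv nets1 6 S3) 0 && S3.testBit 73) = true := by decide +kernel
theorem oi4_0 : (Nat.blt 0 6 && Nat.beq (orbN nets1 6 42 (Nat.shiftLeft 1 116401)) S4) = true := by decide +kernel
theorem ci4 : (Nat.beq (chkInv nets1 6 S4) 0 && S4.testBit 116401) = true := by decide +kernel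
theorem cm4 : chkMx 131072 nets0 8 ws1 6 122760 w4 116401 J4 lBig = true := by decide +kernel
theorem cm3 : chkMx 131072 nets0 8 ws1 6 122760 w3 73 J3 lBig = true := by decide +kernel
theorem cm2 : chkMx 131072 nets0 8 ws1 6 122760 w2 58737 J2 lBig = true := by decide +kernel
theorem cm1 : chkMx 131072 nets0 8 ws1 6 122760 w1 1 J1 lBig = true := by decide +kernel
theorem og4 : Nat.ble 2 (popc 3 (orbN nets4 1 1 (Nat.shiftLeft 1 3))) = true := by decide +kernel
theorem og3 : Nat.ble 2 (popc 3 (orbN nets3 2 2 (Nat.shiftLeft 1 5))) = true := by decide +kernel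
theorem og2 : Nat.ble 16 (popc 7 (orbN nets2 3 6 (Nat.shiftLeft 1 2))) = true := by decide +kernel
theorem pw0 : (allLt 8 (wpow [3, 4, 5, 0] (5 ^ 1)) && bs'.all fun b => Nat.blt b 131072 && Nat.beq (chkMap nets0 (wpow [3, 4, 5, 0] (5 ^ 1)) b b) 0) = true := by decide +kernel
end CfH6.ONA
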